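import Cfsg.Agent.Lib.InvChar.CosetCert

/-! Coset enumeration certificate J3O11 for a presented sporadic group. -/

set_option autoImplicit false
set_option maxRecDepth 100000

namespace CfsgLib.InvChar.Coset.J3O11

/-- facts -/
noncomputable def facts : Tr := (.leaf 0xbf0000200000f0000b00004f0000800012f0000c0001500001200014f0000d000112000150000b000013000102000130000e3000120000c20000f0000820000b00003300005000052000070001530000a0001420000a000133000090001240000800011400007000103000070000f3000060000e2000060000d0000060000c4000040000b3000040000a400003000092000030000830000200007000002000064000010000510000100004200000000030000000000220000100001300000)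
/-- justifications -/
noncomputable def just : Tr := (.leaf 0x7000200000a0000c00c0000005c000800000c0002003000000110001f0000b0001000c000000600003800014000040001c0005c0006c000680003c000400007000079060f00b001000190000d0000c0001d000130001440020018000000300003400064000440005c0006c000680003c0004000070000500004d000f00b001000140000900008000120001a0000f00010410340040180004800020000080000c000290008001004000120000800016000150000f4001c004010000440005c000280002c000600003800035020d0010060000e000050000100007000170000a0000b41034004018000280000c00000000040001d000700100400015000060000100000000024042000800c0001800004000110106001002)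
/-- relators -/
def rels : List (List ℕ) := [[0, 0], [1, 1], [2, 2], [3, 3], [4, 4], [1, 0, 1, 0, 1, 0, 1, 0], [2, 0, 2, 1], [3, 2, 3, 2, 3, 2], [3, 2, 0, 2, 3, 0], [3, 2, 1, 2, 3, 1], [0, 2, 3, 4, 0, 2, 3, 4, 0, 2, 3, 4], [0, 2, 3, 4, 1, 0, 1, 0, 4, 3, 2, 0, 1], [0, 2, 3, 4, 1, 4, 3, 2, 0, 1, 0, 1, 0, 1], [2, 3, 4, 2, 3, 4, 2, 3], [3, 2, 0, 2, 3, 4, 2, 3, 4, 3, 2, 0], [0, 2, 3, 4, 2, 0, 2, 3, 4, 2, 3, 2]]
/-- subgroup words -/
def subs : List (List ℕ) := []
/-- the letters, as letters of the whole group -/
def emb : List ℕ := [3, 4, 6, 7, 8]
/-- certificate -/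
noncomputable def cert : Cert := ⟨5, 35, 21, facts, just, rels, subs⟩

end CfsgLib.InvChar.Coset.J3O11
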